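import Groth.Agent.QCoh.DeligneHom
import Groth.Agent.S9516

/-!
# Morphisms on an open as morphisms out of powers of the ideal
-/

set_option linter.style.haveILetI false
set_option backward.isDefEq.respectTransparency false
set_option backward.isDefEq.respectTransparency.types false

universe u

open CategoryTheory CategoryTheory.Limits AlgebraicGeometry Opposite

namespace Groth.Agent.Deligne7

open Groth.Agent Groth.Agent.QCoh

theorem conj_eq {C D E : Type*} [Category C] [Category D] [Category E] {R : C ⥤ D} {R₀ : C ⥤ E} {E' : D ⥤ E}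
    (c : R₀ ≅ R ⋙ E') {A B F : C} (i : A ⟶ B) (φ : R.obj B ⟶ R.obj F) :
    c.inv.app A ≫ (R₀.map i ≫ c.hom.app B ≫ E'.map φ ≫ c.inv.app F) ≫ c.hom.app F = E'.map (R.map i ≫ φ) := by
  have h : c.inv.app A ≫ R₀.map i ≫ c.hom.app B = E'.map (R.map i) := by
    rw [c.hom.naturality, Iso.inv_hom_id_app_assoc]
    rfl
  rw [E'.map_comp, ← h]
  simp

variable {X : Scheme.{u}} [IsNoetherian X] (I : X.IdealSheafData) {G : X.Modules}

/-- Transition maps of the system `I^n G`. -/
theorem exists_trans (hG : Coh.IsQCoh G) {n m : ℕ} (h : n ≤ m) :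
    ∃ t : (Dual3.idealMul (I ^ m)).obj G ⟶ (Dual3.idealMul (I ^ n)).obj G,
      t ≫ Dual3.idealMulι (I ^ n) G = Dual3.idealMulι (I ^ m) G := by
  have hle : Subobject.mk (Dual3.idealMulι (I ^ m) G) ≤ Subobject.mk (Dual3.idealMulι (I ^ n) G) := by
    refine subobject_le_of_cover (isQCoh_idealMul _ hG) (isQCoh_idealMul _ hG) hG _ _
      (fun V : X.affineOpens => V.1) (fun V => V.2) (fun x => ?_) fun V => ?_
    · obtain ⟨V, hV, hxV⟩ := exists_affine_mem x
      exact ⟨⟨V, hV⟩, hxV⟩
    · rw [range_idealMul _ hG V.2, range_idealMul _ hG V.2]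
      refine Submodule.smul_mono_left ?_
      rw [Scheme.IdealSheafData.ideal_pow, Pi.pow_apply, Scheme.IdealSheafData.ideal_pow, Pi.pow_apply]
      exact Ideal.pow_le_pow_right h
  exact ⟨Subobject.ofMkLEMk _ _ hle, Subobject.ofMkLEMk_comp hle⟩

theorem hom_ext {Z : X.Modules} {n : ℕ} {t t' : Z ⟶ (Dual3.idealMul (I ^ n)).obj G}
    (h : t ≫ Dual3.idealMulι (I ^ n) G = t' ≫ Dual3.idealMulι (I ^ n) G) : t = t' :=
  (cancel_mono (Dual3.idealMulι (I ^ n) G)).1 h

variable {U : Scheme.{u}} (j : U ⟶ X) [IsOpenImmersion j] (hI : I.supportSetᶜ = Set.range j)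
include hI

/-- On the open the powers of the ideal do nothing. -/
theorem isIso_restrict_ι (hG : Coh.IsQCoh G) (n : ℕ) :
    IsIso ((Scheme.Modules.restrictFunctor j).map (Dual3.idealMulι (I ^ n) G)) := by
  let R := Scheme.Modules.restrictFunctor j
  let ι := Dual3.idealMulι (I ^ n) G
  haveI : PreservesFiniteLimits R := restrict_preservesFiniteLimits j
  haveI : Mono (R.map ι) := inferInstance
  have hsurj : ∀ W : U.Opens, IsAffineOpen W → Function.Surjective ((R.map ι).app W) := by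
    intro W hW
    have hV : IsAffineOpen (j ''ᵁ W) := hW.image_of_isOpenImmersion j
    show Function.Surjective (ι.app (j ''ᵁ W))
    have htop : I.ideal ⟨j ''ᵁ W, hV⟩ = ⊤ := by
      refine PrimeSpectrum.zeroLocus_empty_iff_eq_top.1 ((Set.image_eq_empty (f := hV.fromSpec)).1 ?_)
      refine (hV.fromSpec_image_zeroLocus _).trans ((Scheme.IdealSheafData.coe_support_inter I ⟨j ''ᵁ W, hV⟩).symm.trans ?_)
      refine Set.eq_empty_iff_forall_notMem.2 fun x hx => ?_
      obtain ⟨w, -, rfl⟩ := hx.2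
      exact (hI.ge ⟨w, rfl⟩) hx.1
    have hr := range_idealMul (I ^ n) hG hV
    rw [Scheme.IdealSheafData.ideal_pow, Pi.pow_apply, htop, ← Ideal.one_eq_top, one_pow, one_smul] at hr
    exact fun y => LinearMap.range_eq_top.1 hr y
  have hC : Coh.IsQCoh (cokernel (R.map ι)) :=
    isQCoh_cokernel (isQCoh_restrict j (isQCoh_idealMul _ hG)) (isQCoh_restrict j hG) _
  haveI : Epi (R.map ι) := by
    refine Preadditive.epi_of_cancel_zero _ fun {Z} g hg => ?_
    obtain ⟨k, rfl⟩ : ∃ k, cokernel.π (R.map ι) ≫ k = g := ⟨cokernel.desc _ g hg, cokernel.π_desc _ _ _⟩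
    rw [hom_eq_zero_of_affine (cokernel.π (R.map ι)) fun W hW x => by
      obtain ⟨y, rfl⟩ := hsurj W hW x
      exact congr(($(cokernel.condition (R.map ι))).app W y), zero_comp]
  exact isIso_of_mono_of_epi _

/-- Morphisms on the open extend to a power of the ideal. -/
theorem exists_lift {F : X.Modules} (hF : Coh.IsQCoh F) (hG : Coh.IsCoh G)
    (φ : (Scheme.Modules.restrictFunctor j).obj G ⟶ (Scheme.Modules.restrictFunctor j).obj F) :
    ∃ (n : ℕ) (ψ : (Dual3.idealMul (I ^ n)).obj G ⟶ F),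
      (Scheme.Modules.restrictFunctor j).map ψ =
        (Scheme.Modules.restrictFunctor j).map (Dual3.idealMulι (I ^ n) G) ≫ φ := by
  let e := j.isoOpensRange
  let R := Scheme.Modules.restrictFunctor j
  let R₀ := Scheme.Modules.restrictFunctor j.opensRange.ι
  let E := Scheme.Modules.restrictFunctor e.hom
  let E' := Scheme.Modules.restrictFunctor e.inv
  let c' : R₀ ≅ R ⋙ E' := Scheme.Modules.restrictFunctorCongr (f := j.opensRange.ι) (g := e.inv ≫ j)
    (by rw [Iso.eq_inv_comp]; exact j.isoOpensRange_hom_ι) ≪≫ Scheme.Modules.restrictFunctorComp _ _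
  haveI : E'.Faithful := Functor.Faithful.of_comp_iso (F := E') (G := E) (H := 𝟭 _)
    ((Scheme.Modules.restrictFunctorComp e.hom e.inv).symm ≪≫
      Scheme.Modules.restrictFunctorCongr e.hom_inv_id ≪≫ Scheme.Modules.restrictFunctorId)
  obtain ⟨n, ψ, hψ⟩ := exists_hom_idealPow hF hG I j.opensRange (by exact hI.symm)
    (c'.hom.app G ≫ E'.map φ ≫ c'.inv.app F)
  refine ⟨n, ψ, E'.map_injective ?_⟩
  have h := congrArg (fun q => c'.inv.app _ ≫ q ≫ c'.hom.app F) hψ
  have e1 : c'.inv.app _ ≫ R₀.map ψ ≫ c'.hom.app F = E'.map (R.map ψ) := by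
    rw [c'.hom.naturality, Iso.inv_hom_id_app_assoc]
    rfl
  exact e1.symm.trans (h.trans (conj_eq c' _ φ))

/-- Morphisms out of a power of the ideal vanishing on the open die on a higher power. -/
theorem exists_kill {F : X.Modules} (hF : Coh.IsQCoh F) (hG : Coh.IsCoh G) {n : ℕ}
    (ψ : (Dual3.idealMul (I ^ n)).obj G ⟶ F) (hψ : (Scheme.Modules.restrictFunctor j).map ψ = 0) :
    ∃ N : ℕ, n ≤ N ∧ ∀ m : ℕ, N ≤ m → ∀ t : (Dual3.idealMul (I ^ m)).obj G ⟶ (Dual3.idealMul (I ^ n)).obj G,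
      t ≫ Dual3.idealMulι (I ^ n) G = Dual3.idealMulι (I ^ m) G → t ≫ ψ = 0 := by
  let U₀ := j.opensRange
  have h0 : (Scheme.Modules.restrictFunctor U₀.ι).map ψ = 0 := by
    let c' : Scheme.Modules.restrictFunctor U₀.ι ≅ Scheme.Modules.restrictFunctor j ⋙
        Scheme.Modules.restrictFunctor j.isoOpensRange.inv := Scheme.Modules.restrictFunctorCongr
      (f := U₀.ι) (g := j.isoOpensRange.inv ≫ j)
      (by rw [Iso.eq_inv_comp]; exact j.isoOpensRange_hom_ι) ≪≫ Scheme.Modules.restrictFunctorComp _ _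
    haveI : PreservesFiniteLimits (Scheme.Modules.restrictFunctor j.isoOpensRange.inv) :=
      restrict_preservesFiniteLimits _
    rw [← cancel_mono (c'.hom.app F), c'.hom.naturality, zero_comp, Functor.comp_map, hψ, Functor.map_zero, comp_zero]
  obtain ⟨N, ι, hι, hz⟩ := Groth.Agent.S9516.result X F G hF hG I U₀ (by exact hI.symm) n ψ h0
  refine ⟨max n N, le_max_left _ _, fun m hm t ht => ?_⟩
  obtain ⟨s, hs⟩ := exists_trans I hG.1 (le_trans (le_max_right n N) hm)
  rw [hom_ext I (t := t) (t' := s ≫ ι) (by rw [ht, Category.assoc, hι, hs]), Category.assoc, hz, comp_zero]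

end Groth.Agent.Deligne7
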