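import Groth.Agent.Deligne7.Basic
import Mathlib.Algebra.Homology.Homotopy

/-!
# The Deligne system of a bounded complex
-/

set_option linter.style.haveILetI false
set_option backward.isDefEq.respectTransparency false
set_option backward.isDefEq.respectTransparency.types false

attribute [-instance] CategoryTheory.catToReflQuiver

universe u

open CategoryTheory CategoryTheory.Limits AlgebraicGeometry

namespace Groth.Agent.Deligne7

open Groth.Agent Groth.Agent.QCoh

variable {X : Scheme.{u}} [IsNoetherian X] (I : X.IdealSheafData)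
  {F : CochainComplex X.Modules ℤ} (hFc : ∀ q : ℤ, Coh.IsCoh (F.X q))

include hFc in
/-- Transition maps of complexes. -/
theorem exists_trans_cx {n m : ℕ} (h : n ≤ m) :
    ∃ t : (Dual3.deligne I m).obj F ⟶ (Dual3.deligne I n).obj F,
      t ≫ Dual3.deligneι I n F = Dual3.deligneι I m F := by
  choose t ht using fun q => exists_trans I (hFc q).1 h
  refine ⟨{ f := t, comm' := fun p q _ => hom_ext I ?_ }, by ext q : 1; exact ht q⟩
  show (t p ≫ (Dual3.idealMul (I ^ n)).map (F.d p q)) ≫ _ = ((Dual3.idealMul (I ^ m)).map (F.d p q) ≫ t q) ≫ _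
  rw [Category.assoc, Dual3.idealMul_map_ι, ← Category.assoc, ht, Category.assoc, ht, Dual3.idealMul_map_ι]

variable {U : Scheme.{u}} (j : U ⟶ X) [IsOpenImmersion j] (hI : I.supportSetᶜ = Set.range j)
  {lo hi : ℤ} (hF : DCoh.VanishesOutside F lo hi)
  {J : CochainComplex X.Modules ℤ} (hJ : ∀ q, Coh.IsQCoh (J.X q))

local notation "R" => Scheme.Modules.restrictFunctor j
set_option quotPrecheck false in
local notation "RC" => (Scheme.Modules.restrictFunctor j).mapHomologicalComplex (ComplexShape.up ℤ)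

include hF in
theorem hom_outside (n : ℕ) {q : ℤ} (hq : q < lo ∨ hi < q) {Z : X.Modules}
    (φ ψ : (Dual3.idealMul (I ^ n)).obj (F.X q) ⟶ Z) : φ = ψ :=
  ((Dual3.idealMul (I ^ n)).map_isZero (hF q hq)).eq_of_src _ _

include hI hF hJ hFc

/-- A chain map on the open extends to a power of the ideal. -/
theorem exists_lift_cx (a : (RC).obj F ⟶ (RC).obj J) :
    ∃ (n : ℕ) (ψ : (Dual3.deligne I n).obj F ⟶ J),
      (RC).map ψ = (RC).map (Dual3.deligneι I n F) ≫ a := by
  choose n ψ hψ using fun q => exists_lift I j hI (hJ q) (hFc q) (a.f q)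
  let M : ℕ := (Finset.Icc lo hi).sup n
  have hφ : ∀ q, ∃ φ : (Dual3.idealMul (I ^ M)).obj (F.X q) ⟶ J.X q,
      (R).map φ = (R).map (Dual3.idealMulι (I ^ M) (F.X q)) ≫ a.f q := fun q => by
    by_cases hq : q < lo ∨ hi < q
    · exact ⟨0, ((R).map_isZero ((Dual3.idealMul (I ^ M)).map_isZero (hF q hq))).eq_of_src _ _⟩
    obtain ⟨t, ht⟩ := exists_trans I (hFc q).1 (n := n q) (m := M)
      (Finset.le_sup (Finset.mem_Icc.2 ⟨by omega, by omega⟩))
    exact ⟨t ≫ ψ q, by rw [(R).map_comp, hψ, ← Category.assoc, ← (R).map_comp, ht]⟩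
  choose φ hφ using hφ
  let e : ∀ p, (Dual3.idealMul (I ^ M)).obj (F.X p) ⟶ J.X (p + 1) := fun p =>
    (Dual3.idealMul (I ^ M)).map (F.d p (p + 1)) ≫ φ (p + 1) - φ p ≫ J.d p (p + 1)
  have he : ∀ p, (R).map (e p) = 0 := fun p => by
    rw [Functor.map_sub, (R).map_comp, (R).map_comp, hφ, hφ, ← Category.assoc, ← (R).map_comp,
      Dual3.idealMul_map_ι, (R).map_comp, Category.assoc, Category.assoc, sub_eq_zero]
    exact congrArg (fun z => (R).map (Dual3.idealMulι (I ^ M) (F.X p)) ≫ z) (a.comm p (p + 1)).symm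
  choose N hN hkill using fun p => exists_kill I j hI (hJ (p + 1)) (hFc p) (e p) (he p)
  let M' : ℕ := max M ((Finset.Icc lo hi).sup N)
  obtain ⟨t, ht⟩ := exists_trans_cx I hFc (le_max_left M ((Finset.Icc lo hi).sup N))
  refine ⟨M', { f := fun q => t.f q ≫ φ q, comm' := ?_ }, ?_⟩
  · rintro p q (rfl : p + 1 = q)
    rw [← Category.assoc ((((Dual3.deligne I M').obj F)).d p (p + 1)), ← t.comm p (p + 1), Category.assoc,
      Category.assoc]
    refine (sub_eq_zero.1 ?_).symm
    show t.f p ≫ (Dual3.idealMul (I ^ M)).map (F.d p (p + 1)) ≫ φ (p + 1) - t.f p ≫ φ p ≫ J.d p (p + 1) = 0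
    rw [← Preadditive.comp_sub]
    by_cases hp : p < lo ∨ hi < p
    · exact hom_outside I hF M' hp _ _
    · exact hkill p M' (le_trans (Finset.le_sup (Finset.mem_Icc.2 ⟨by omega, by omega⟩)) (le_max_right _ _))
        (t.f p) (congrArg (fun z => z.f p) ht)
  · ext q : 1
    show (R).map (t.f q ≫ φ q) = (R).map (Dual3.idealMulι (I ^ M') (F.X q)) ≫ a.f q
    rw [(R).map_comp, hφ, ← Category.assoc, ← (R).map_comp]
    exact congrArg (fun z => (R).map z ≫ a.f q) (congrArg (fun z => z.f q) ht)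

/-- A chain map null-homotopic on the open is so on a higher power of the ideal. -/
theorem exists_kill_cx {n : ℕ} (ψ : (Dual3.deligne I n).obj F ⟶ J) (h : Homotopy ((RC).map ψ) 0) :
    ∃ N : ℕ, n ≤ N ∧ ∀ t : (Dual3.deligne I N).obj F ⟶ (Dual3.deligne I n).obj F,
      t ≫ Dual3.deligneι I n F = Dual3.deligneι I N F → Nonempty (Homotopy (t ≫ ψ) 0) := by
  have hiso : ∀ (k : ℕ) (q : ℤ), IsIso ((R).map (Dual3.idealMulι (I ^ k) (F.X q))) := fun k q =>
    isIso_restrict_ι I j hI (hFc q).1 k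
  haveI := hiso n
  choose m κ hκ using fun q : ℤ => exists_lift I j hI (hJ (q - 1)) (hFc q)
    (inv ((R).map (Dual3.idealMulι (I ^ n) (F.X q))) ≫ h.hom q (q - 1))
  obtain ⟨M, hM, hnM⟩ : ∃ M, M = max n ((Finset.Icc lo hi).sup m) ∧ n ≤ M := ⟨_, rfl, le_max_left _ _⟩
  obtain ⟨u, hu⟩ := exists_trans_cx I hFc hnM
  have hK : ∀ q, ∃ K : (Dual3.idealMul (I ^ M)).obj (F.X q) ⟶ J.X (q - 1),
      (R).map K = (R).map (u.f q) ≫ h.hom q (q - 1) := fun q => by
    by_cases hq : q < lo ∨ hi < q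
    · exact ⟨0, ((R).map_isZero ((Dual3.idealMul (I ^ M)).map_isZero (hF q hq))).eq_of_src _ _⟩
    obtain ⟨s, hs⟩ := exists_trans I (hFc q).1 (n := m q) (m := M)
      (le_trans (Finset.le_sup (Finset.mem_Icc.2 ⟨by omega, by omega⟩)) ((le_max_right _ _).trans hM.ge))
    refine ⟨s ≫ κ q, ?_⟩
    rw [(R).map_comp, hκ, ← Category.assoc, ← (R).map_comp, hs, ← Category.assoc]
    refine congrArg (fun z => z ≫ h.hom q (q - 1)) ?_
    rw [IsIso.comp_inv_eq, ← (R).map_comp]
    exact congrArg (R).map (congrArg (fun z => z.f q) hu).symm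
  choose K hK using hK
  let Kc : ∀ p q : ℤ, ((Dual3.deligne I M).obj F).X p ⟶ J.X q := fun p q =>
    if hpq : q + 1 = p then K p ≫ eqToHom (congrArg J.X (by omega)) else 0
  have hKc : ∀ p q, (R).map (Kc p q) = (R).map (u.f p) ≫ h.hom p q := fun p q => by
    by_cases hpq : q + 1 = p
    · obtain rfl : q = p - 1 := by omega
      simp only [Kc, dif_pos hpq, eqToHom_refl, Category.comp_id, hK]
    · simp only [Kc, dif_neg hpq, h.zero p q hpq, Functor.map_zero, comp_zero]
  let e : ∀ p, ((Dual3.deligne I M).obj F).X p ⟶ J.X p := fun p =>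
    u.f p ≫ ψ.f p - (((Dual3.deligne I M).obj F).d p (p + 1) ≫ Kc (p + 1) p + Kc p (p - 1) ≫ J.d (p - 1) p)
  have he : ∀ p, (R).map (e p) = 0 := fun p => by
    have hc := h.comm p
    rw [dNext_eq _ (show (ComplexShape.up ℤ).Rel p (p + 1) from rfl),
      prevD_eq _ (show (ComplexShape.up ℤ).Rel (p - 1) p from sub_add_cancel p 1)] at hc
    rw [HomologicalComplex.zero_f, add_zero] at hc
    let h' : ∀ a b : ℤ, (R).obj (((Dual3.deligne I n).obj F).X a) ⟶ (R).obj (J.X b) := fun a b => h.hom a b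
    have hc' : (R).map (ψ.f p) = (R).map (((Dual3.deligne I n).obj F).d p (p + 1)) ≫ h' (p + 1) p +
        h' p (p - 1) ≫ (R).map (J.d (p - 1) p) := hc
    have hKc' : ∀ a b, (R).map (Kc a b) = (R).map (u.f a) ≫ h' a b := hKc
    have hud : (R).map (((Dual3.deligne I M).obj F).d p (p + 1)) ≫ (R).map (u.f (p + 1)) =
        (R).map (u.f p) ≫ (R).map (((Dual3.deligne I n).obj F).d p (p + 1)) := by
      rw [← (R).map_comp, ← (R).map_comp, u.comm]
    rw [Functor.map_sub, Functor.map_add, (R).map_comp, (R).map_comp, (R).map_comp, hKc', hKc', sub_eq_zero,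
      Category.assoc, reassoc_of% hud, ← Preadditive.comp_add]
    exact congrArg (fun z => (R).map (u.f p) ≫ z) hc'
  choose N hN hkill using fun p => exists_kill I j hI (hJ p) (hFc p) (e p) (he p)
  let M' : ℕ := max M ((Finset.Icc lo hi).sup N)
  obtain ⟨s, hs⟩ := exists_trans_cx I hFc (le_max_left M ((Finset.Icc lo hi).sup N))
  refine ⟨M', hnM.trans (le_max_left M _), fun t ht => ?_⟩
  obtain rfl : t = s ≫ u := by
    ext q : 1
    exact hom_ext I ((congrArg (fun z => z.f q) ht).trans ((congrArg (fun z => z.f q) hs).symm.trans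
      ((congrArg (fun z => s.f q ≫ z) (congrArg (fun z => z.f q) hu).symm).trans (Category.assoc _ _ _).symm)))
  refine ⟨{ hom := fun p q => s.f p ≫ Kc p q, zero := fun p q hpq => ?_, comm := fun p => ?_ }⟩
  · have hpq' : ¬ q + 1 = p := hpq
    simp only [Kc, dif_neg hpq', comp_zero]
  · rw [dNext_eq _ (show (ComplexShape.up ℤ).Rel p (p + 1) from rfl),
      prevD_eq _ (show (ComplexShape.up ℤ).Rel (p - 1) p from sub_add_cancel p 1),
      HomologicalComplex.zero_f, add_zero]
    rw [← Category.assoc (((Dual3.deligne I M').obj F).d p (p + 1)), ← s.comm p (p + 1), Category.assoc,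
      Category.assoc, HomologicalComplex.comp_f, HomologicalComplex.comp_f]
    refine sub_eq_zero.1 ?_
    rw [Category.assoc, ← Preadditive.comp_add, ← Preadditive.comp_sub]
    by_cases hp : p < lo ∨ hi < p
    · exact hom_outside I hF M' hp _ _
    · exact hkill p M' (le_trans (Finset.le_sup (Finset.mem_Icc.2 ⟨by omega, by omega⟩)) (le_max_right _ _))
        (s.f p) (congrArg (fun z => z.f p) hs)

end Groth.Agent.Deligne7
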