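import Groth.Agent.Deligne7.Basic
import Groth.Agent.S9517
import Groth.Agent.QCoh.Support

/-!
# Homology of the Deligne system and the Artin–Rees lemma
-/

set_option autoImplicit false
set_option linter.style.haveILetI false
set_option backward.isDefEq.respectTransparency false
set_option backward.isDefEq.respectTransparency.types false

attribute [-instance] CategoryTheory.catToReflQuiver

universe u

open CategoryTheory CategoryTheory.Limits AlgebraicGeometry

noncomputable section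

namespace Groth.Agent.Deligne7

open Groth.Agent Groth.Agent.QCoh

variable {X : Scheme.{u}} [IsNoetherian X] (I : X.IdealSheafData)

/-- The Artin-Rees lemma, as a factorisation. -/
theorem exists_artinRees {F G : X.Modules} (hF : Coh.IsCoh F) (hG : Coh.IsQCoh G) (ι : G ⟶ F) [Mono ι] :
    ∃ c : ℕ, ∀ n : ℕ, c ≤ n → ∀ {W : X.Modules} (a : W ⟶ (Dual3.idealMul (I ^ n)).obj F) (b : W ⟶ G),
      a ≫ Dual3.idealMulι (I ^ n) F = b ≫ ι →
        ∃ k : W ⟶ (Dual3.idealMul (I ^ (n - c))).obj G, k ≫ Dual3.idealMulι (I ^ (n - c)) G = b := by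
  obtain ⟨c, hc⟩ := Groth.Agent.S9517.result X F G hF hG ι I
  refine ⟨c, fun n hn W a b hab => ?_⟩
  let S := Subobject.mk (Dual3.idealMulι (I ^ c) F) ⊓ Subobject.mk ι
  let m : (Dual3.idealMul (I ^ (n - c))).obj (Subobject.underlying.obj S) ⟶ F :=
    Dual3.idealMulι (I ^ (n - c)) _ ≫ S.arrow
  have h : (Subobject.mk m).Factors (b ≫ ι) := by
    rw [hc n hn, Subobject.inf_factors]
    exact ⟨(Subobject.mk_factors_iff _ _).2 ⟨a, hab⟩, (Subobject.mk_factors_iff _ _).2 ⟨b, rfl⟩⟩
  obtain ⟨k', hk'⟩ : ∃ k', k' ≫ m = b ≫ ι := (Subobject.mk_factors_iff _ _).1 h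
  let s : Subobject.underlying.obj S ⟶ G :=
    Subobject.ofLE S (Subobject.mk ι) inf_le_right ≫ (Subobject.underlyingIso ι).hom
  have hs : s ≫ ι = S.arrow := by
    rw [Category.assoc, Subobject.underlyingIso_hom_comp_eq_mk, Subobject.ofLE_arrow]
  refine ⟨k' ≫ (Dual3.idealMul (I ^ (n - c))).map s, (cancel_mono ι).1 ?_⟩
  rw [Category.assoc, Category.assoc, Dual3.idealMul_map_ι_assoc, hs]
  exact hk'

/-- `I^n` preserves epimorphisms of quasi-coherent modules. -/
theorem epi_idealMul_map {M N : X.Modules} (hM : Coh.IsQCoh M) (hN : Coh.IsQCoh N) (f : M ⟶ N) [Epi f]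
    (J : X.IdealSheafData) : Epi ((Dual3.idealMul J).map f) := by
  let φ := (Dual3.idealMul J).map f
  refine Preadditive.epi_of_cancel_zero _ fun {Z} g hg => ?_
  obtain ⟨k, rfl⟩ : ∃ k, cokernel.π φ ≫ k = g := ⟨cokernel.desc _ g hg, cokernel.π_desc _ _ _⟩
  rw [hom_eq_zero_of_affine (cokernel.π φ) fun W hW x => ?_, zero_comp]
  have hr : LinearMap.range (appLin (φ ≫ Dual3.idealMulι J N) W) =
      LinearMap.range (appLin (Dual3.idealMulι J N) W) := by
    rw [Dual3.idealMul_map_ι, range_idealMul_comp J hM f hW, range_idealMul J hN hW,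
      LinearMap.range_eq_top.2 (show Function.Surjective (appLin f W) from app_surjective_of_epi hM hN f hW)]
  obtain ⟨y, hy⟩ := hr.ge ⟨x, rfl⟩
  obtain rfl : φ.app W y = x := app_injective (Dual3.idealMulι J N) W hy
  exact congr(($(cokernel.condition φ)).app W y)

variable {F : CochainComplex X.Modules ℤ} (hFc : ∀ q : ℤ, Coh.IsCoh (F.X q)) (p : ℤ)

include hFc in
theorem isCoh_cycles : Coh.IsCoh (F.cycles p) :=
  isCoh_of_mono (F.iCycles p) (hFc p) ((isQCoh_iff_iso (IsLimit.conePointUniqueUpToIso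
    (F.cyclesIsKernel p (p + 1) (by simp)) (kernelIsKernel (F.d p (p + 1))))).2
      (isQCoh_kernel (hFc p).1 (hFc (p + 1)).1 _))

include hFc in
theorem isQCoh_homology : Coh.IsQCoh (F.homology p) :=
  (isQCoh_iff_iso (IsColimit.coconePointUniqueUpToIso
    (F.homologyIsCokernel (p - 1) p (by simp)) (cokernelIsCokernel (F.toCycles (p - 1) p)))).2
      (isQCoh_cokernel (hFc (p - 1)).1 (isCoh_cycles hFc p).1 _)

/-- `I^n Z^p(F) ⟶ Z^p(I^n F)`. -/
def idealCycles (F : CochainComplex X.Modules ℤ) (n : ℕ) :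
    (Dual3.idealMul (I ^ n)).obj (F.cycles p) ⟶ ((Dual3.deligne I n).obj F).cycles p :=
  ((Dual3.deligne I n).obj F).liftCycles ((Dual3.idealMul (I ^ n)).map (F.iCycles p)) (p + 1) (by simp) (by
    show (Dual3.idealMul (I ^ n)).map _ ≫ (Dual3.idealMul (I ^ n)).map (F.d p (p + 1)) = 0
    rw [← Functor.map_comp, HomologicalComplex.iCycles_d, Functor.map_zero])

@[reassoc]
theorem idealCycles_i (n : ℕ) : idealCycles I p F n ≫ ((Dual3.deligne I n).obj F).iCycles p =
    (Dual3.idealMul (I ^ n)).map (F.iCycles p) :=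
  HomologicalComplex.liftCycles_i _ _ _ _ _

@[reassoc]
theorem idealCycles_cyclesMap (n : ℕ) : idealCycles I p F n ≫
    HomologicalComplex.cyclesMap (Dual3.deligneι I n F) p = Dual3.idealMulι (I ^ n) (F.cycles p) := by
  rw [← cancel_mono (F.iCycles p), Category.assoc, HomologicalComplex.cyclesMap_i, idealCycles_i_assoc]
  exact Dual3.idealMul_map_ι (I ^ n) (F.iCycles p)

theorem map_toCycles_idealCycles (n : ℕ) :
    (Dual3.idealMul (I ^ n)).map (F.toCycles (p - 1) p) ≫ idealCycles I p F n =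
      ((Dual3.deligne I n).obj F).toCycles (p - 1) p := by
  rw [← cancel_mono (((Dual3.deligne I n).obj F).iCycles p), Category.assoc, idealCycles_i,
    HomologicalComplex.toCycles_i, ← Functor.map_comp, HomologicalComplex.toCycles_i]
  rfl

theorem mono_cyclesMap_ι (n : ℕ) : Mono (HomologicalComplex.cyclesMap (Dual3.deligneι I n F) p) := by
  haveI : Mono ((Dual3.deligneι I n F).f p) := Dual3.mono_idealMulι _ _
  haveI : Mono (HomologicalComplex.cyclesMap (Dual3.deligneι I n F) p ≫ F.iCycles p) := by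
    rw [HomologicalComplex.cyclesMap_i]; infer_instance
  exact mono_of_mono _ (F.iCycles p)

include hFc in
/-- The maps in both directions. -/
theorem exists_pro_maps :
    ∃ c : ℕ, 0 < c ∧ ∀ n : ℕ, c ≤ n →
      (∃ a : ((Dual3.deligne I n).obj F).cycles p ⟶ (Dual3.idealMul (I ^ (n - c))).obj (F.cycles p),
        a ≫ Dual3.idealMulι (I ^ (n - c)) (F.cycles p) = HomologicalComplex.cyclesMap (Dual3.deligneι I n F) p) ∧
      ∃ (u : (Dual3.idealMul (I ^ n)).obj (F.cycles p) ⟶ (Dual3.idealMul (I ^ (n - c))).obj (F.cycles p))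
        (l : (Dual3.idealMul (I ^ n)).obj (F.homology p) ⟶ ((Dual3.deligne I (n - c)).obj F).homology p),
        u ≫ Dual3.idealMulι (I ^ (n - c)) (F.cycles p) = Dual3.idealMulι (I ^ n) (F.cycles p) ∧
        (Dual3.idealMul (I ^ n)).map (F.homologyπ p) ≫ l =
          u ≫ idealCycles I p F (n - c) ≫ ((Dual3.deligne I (n - c)).obj F).homologyπ p := by
  have hZ := isCoh_cycles hFc p
  have hH := isQCoh_homology hFc p
  let κ := kernel.ι (F.homologyπ p)
  have hB : Coh.IsQCoh (kernel (F.homologyπ p)) := isQCoh_kernel hZ.1 hH _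
  let q : F.X (p - 1) ⟶ kernel (F.homologyπ p) :=
    kernel.lift _ (F.toCycles (p - 1) p) (F.toCycles_comp_homologyπ (p - 1) p)
  haveI : Epi q := (ShortComplex.exact_iff_epi_kernel_lift
    (ShortComplex.mk (F.toCycles (p - 1) p) (F.homologyπ p) (F.toCycles_comp_homologyπ (p - 1) p))).1
      (ShortComplex.exact_of_g_is_cokernel _ (F.homologyIsCokernel (p - 1) p (by simp)))
  obtain ⟨c₁, h₁⟩ := exists_artinRees I (hFc p) hZ.1 (F.iCycles p)
  obtain ⟨c₂, h₂⟩ := exists_artinRees I hZ hB κ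
  refine ⟨max c₁ c₂ + 1, by omega, fun n hn => ⟨?_, ?_⟩⟩
  · obtain ⟨k, hk⟩ := h₁ n (by omega) (((Dual3.deligne I n).obj F).iCycles p)
      (HomologicalComplex.cyclesMap (Dual3.deligneι I n F) p) (HomologicalComplex.cyclesMap_i (Dual3.deligneι I n F) p).symm
    obtain ⟨s, hs⟩ := exists_trans I hZ.1 (n := n - (max c₁ c₂ + 1)) (m := n - c₁) (by omega)
    exact ⟨k ≫ s, by rw [Category.assoc, hs, hk]⟩
  · generalize hm : n - (max c₁ c₂ + 1) = m
    obtain ⟨u, hu⟩ := exists_trans I hZ.1 (n := m) (m := n) (by omega)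
    haveI : Epi ((Dual3.idealMul (I ^ n)).map (F.homologyπ p)) := epi_idealMul_map hZ.1 hH _ _
    have h0 : kernel.ι ((Dual3.idealMul (I ^ n)).map (F.homologyπ p)) ≫
        u ≫ idealCycles I p F m ≫ ((Dual3.deligne I m).obj F).homologyπ p = 0 := by
      obtain ⟨k, hk⟩ := h₂ n (by omega) (kernel.ι ((Dual3.idealMul (I ^ n)).map (F.homologyπ p)))
        (kernel.lift (F.homologyπ p) (kernel.ι _ ≫ Dual3.idealMulι (I ^ n) (F.cycles p)) (by
          rw [Category.assoc, ← Dual3.idealMul_map_ι, kernel.condition_assoc, zero_comp]))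
        (kernel.lift_ι _ _ _).symm
      obtain ⟨s, hs⟩ := exists_trans I hB (n := m) (m := n - c₂) (by omega)
      have he : kernel.ι ((Dual3.idealMul (I ^ n)).map (F.homologyπ p)) ≫ u =
          (k ≫ s) ≫ (Dual3.idealMul (I ^ m)).map κ := hom_ext I (by
        rw [Category.assoc, hu, Category.assoc, Dual3.idealMul_map_ι, ← Category.assoc (k ≫ s),
          Category.assoc k, hs, hk, kernel.lift_ι])
      haveI : Epi ((Dual3.idealMul (I ^ m)).map q) := epi_idealMul_map (hFc (p - 1)).1 hB q _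
      have hz : (Dual3.idealMul (I ^ m)).map κ ≫ idealCycles I p F m ≫
          ((Dual3.deligne I m).obj F).homologyπ p = 0 := by
        rw [← cancel_epi ((Dual3.idealMul (I ^ m)).map q), ← Category.assoc, ← Functor.map_comp, kernel.lift_ι,
          ← Category.assoc, map_toCycles_idealCycles, comp_zero]
        exact HomologicalComplex.toCycles_comp_homologyπ _ _ _
      rw [reassoc_of% he, hz, comp_zero, comp_zero]
    exact ⟨u, Abelian.epiDesc _ _ h0, hu, Abelian.comp_epiDesc _ _ _⟩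

end Groth.Agent.Deligne7

end
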