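import Groth.Agent.Deligne7.Complex
import Groth.Agent.QCohRep7.Basic
import Groth.Agent.KFlatLib.Scheme.ExtZero
import Groth.Prelude.Def_DCoh3
import Mathlib.Algebra.Homology.DerivedCategory.ExactFunctor

/-!
# The colimit of morphisms out of the Deligne system
-/

set_option autoImplicit false
set_option linter.style.haveILetI false
set_option backward.isDefEq.respectTransparency false
set_option backward.isDefEq.respectTransparency.types false

attribute [-instance] CategoryTheory.catToReflQuiver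

universe u

open CategoryTheory CategoryTheory.Limits CategoryTheory.Pretriangulated CategoryTheory.Triangulated AlgebraicGeometry

attribute [local instance] HasDerivedCategory.standard

noncomputable section

namespace Groth.Agent.Deligne7

open Groth.Agent

section Generic

variable {C : Type*} [Category C] [HasShift C ℤ] [Preadditive C] [HasZeroObject C]
  [∀ n : ℤ, (shiftFunctor C n).Additive] [Pretriangulated C] (t : TStructure C)
  (T : Triangle C) (hT : T ∈ distTriang C) (A : C) (hi : ℤ) [t.IsLE A hi] [t.IsGE T.obj₃ (hi + 1)]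

include t hT hi

theorem hom₁_cancel {f g : A ⟶ T.obj₁} (h : f ≫ T.mor₁ = g ≫ T.mor₁) : f = g := by
  have h0 : (f - g) ≫ T.invRotate.mor₂ = 0 := by
    show (f - g) ≫ T.mor₁ = 0
    rw [Preadditive.sub_comp, h, sub_self]
  obtain ⟨k, hk⟩ := Triangle.coyoneda_exact₂ _ (inv_rot_of_distTriang _ hT) (f - g) h0
  haveI : t.IsGE T.invRotate.obj₁ (hi + 2) :=
    t.isGE_shift T.obj₃ (hi + 1) (-1) (hi + 2) (by omega)
  rw [t.zero k hi (hi + 2) (by omega), zero_comp] at hk
  exact sub_eq_zero.1 hk

theorem exists_hom₁ (g : A ⟶ T.obj₂) : ∃ g' : A ⟶ T.obj₁, g' ≫ T.mor₁ = g := by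
  obtain ⟨k, hk⟩ := Triangle.coyoneda_exact₂ _ hT g (t.zero _ hi (hi + 1) (by omega))
  exact ⟨k, hk.symm⟩

end Generic

section KInj

variable {C : Type*} [Category C] [Abelian C] [HasDerivedCategory C]
  (A K : CochainComplex C ℤ) [K.IsKInjective]

theorem exists_Q_map (α : DerivedCategory.Q.obj A ⟶ DerivedCategory.Q.obj K) :
    ∃ f : A ⟶ K, DerivedCategory.Q.map f = α := by
  obtain ⟨g, hg⟩ := (CochainComplex.IsKInjective.Qh_map_bijective _ _).surjective
    ((DerivedCategory.quotientCompQhIso C).hom.app A ≫ α ≫ (DerivedCategory.quotientCompQhIso C).inv.app K)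
  obtain ⟨f, rfl⟩ := (HomotopyCategory.quotient C (ComplexShape.up ℤ)).map_surjective g
  refine ⟨f, ?_⟩
  rw [← cancel_epi ((DerivedCategory.quotientCompQhIso C).hom.app A)]
  refine ((DerivedCategory.quotientCompQhIso C).hom.naturality f).symm.trans ?_
  rw [Functor.comp_map, hg, Category.assoc, Category.assoc, Iso.inv_hom_id_app, Category.comp_id]

theorem nonempty_homotopy {f g : A ⟶ K} (h : DerivedCategory.Q.map f = DerivedCategory.Q.map g) :
    Nonempty (Homotopy f g) := by
  refine ⟨HomotopyCategory.homotopyOfEq f g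
    ((CochainComplex.IsKInjective.Qh_map_bijective _ _).injective ?_)⟩
  rw [← cancel_mono ((DerivedCategory.quotientCompQhIso C).hom.app K)]
  refine ((DerivedCategory.quotientCompQhIso C).hom.naturality f).trans ?_
  rw [h]
  exact ((DerivedCategory.quotientCompQhIso C).hom.naturality g).symm

end KInj

variable {U X : Scheme.{u}} (j : U ⟶ X) [IsOpenImmersion j]
  [PreservesFiniteLimits (Scheme.Modules.restrictFunctor j)]

theorem isLE_Q {Y : Scheme.{u}} (K : CochainComplex Y.Modules ℤ) (n : ℤ) (h : ∀ i, n < i → IsZero (K.X i)) :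
    DerivedCategory.TStructure.t.IsLE (DerivedCategory.Q.obj K) n := by
  haveI : K.IsStrictlyLE n := (CochainComplex.isStrictlyLE_iff _ _).2 h
  exact inferInstanceAs ((DerivedCategory.Q.obj K).IsLE n)

theorem isLE_restrictD (K : CochainComplex X.Modules ℤ) (n : ℤ) (h : ∀ i, n < i → IsZero (K.X i)) :
    DerivedCategory.TStructure.t.IsLE ((DCoh.restrictD j).obj (DerivedCategory.Q.obj K)) n := by
  haveI : DerivedCategory.TStructure.t.IsLE
      (((Scheme.Modules.restrictFunctor j).mapHomologicalComplex (ComplexShape.up ℤ) ⋙ DerivedCategory.Q).obj K) n :=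
    isLE_Q (((Scheme.Modules.restrictFunctor j).mapHomologicalComplex (ComplexShape.up ℤ)).obj K) n
      fun i hi => (Scheme.Modules.restrictFunctor j).map_isZero (h i hi)
  exact DerivedCategory.TStructure.t.isLE_of_iso
    ((Scheme.Modules.restrictFunctor j).mapDerivedCategoryFactors.app K).symm n

theorem isGE_restrictD (M : DCoh.D X) (n : ℤ) [DerivedCategory.TStructure.t.IsGE M n] :
    DerivedCategory.TStructure.t.IsGE ((DCoh.restrictD j).obj M) n := by
  haveI : M.IsGE n := ‹_›
  obtain ⟨K, hK, ⟨e⟩⟩ := DerivedCategory.exists_iso_Q_obj_of_isGE M n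
  haveI : CochainComplex.IsStrictlyGE
      (((Scheme.Modules.restrictFunctor j).mapHomologicalComplex (ComplexShape.up ℤ)).obj K) n :=
    (CochainComplex.isStrictlyGE_iff _ _).2 fun i hi =>
      (Scheme.Modules.restrictFunctor j).map_isZero ((CochainComplex.isStrictlyGE_iff _ _).1 hK i hi)
  haveI : DerivedCategory.TStructure.t.IsGE
      (((Scheme.Modules.restrictFunctor j).mapHomologicalComplex (ComplexShape.up ℤ) ⋙ DerivedCategory.Q).obj K) n :=
    inferInstanceAs ((DerivedCategory.Q.obj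
      (((Scheme.Modules.restrictFunctor j).mapHomologicalComplex (ComplexShape.up ℤ)).obj K)).IsGE n)
  exact DerivedCategory.TStructure.t.isGE_of_iso
    (((Scheme.Modules.restrictFunctor j).mapDerivedCategoryFactors.app K).symm ≪≫ (DCoh.restrictD j).mapIso e.symm) n

variable [IsNoetherian X]

/-- The truncation of `L` below `hi` is represented by a bounded below complex of injective
quasi-coherent modules. -/
theorem hasRep_truncLE (L : DCoh.D X) (hLc : DCoh.IsQCohD L) (c₀ hi : ℤ) (hK : ∀ i : ℤ, i < c₀ → IsZero (DCoh.HD L i)) :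
    QCohRep7.HasRep ((DerivedCategory.TStructure.t.truncLE hi).obj L) := by
  let t : TStructure (DCoh.D X) := DerivedCategory.TStructure.t
  let T := (t.triangleLEGE hi (hi + 1) rfl).obj L
  have hT : T ∈ distTriang _ := t.triangleLEGE_distinguished hi (hi + 1) rfl L
  haveI : L.IsGE c₀ := (DerivedCategory.isGE_iff _ _).2 hK
  haveI : t.IsGE L c₀ := ‹_›
  haveI h1GE : T.obj₁.IsGE c₀ := inferInstanceAs (t.IsGE ((t.truncLE hi).obj L) c₀)
  haveI h1LE : T.obj₁.IsLE hi := inferInstanceAs (t.IsLE ((t.truncLE hi).obj L) hi)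
  have h3GE : T.obj₃.IsGE (hi + 1) := inferInstanceAs (t.IsGE ((t.truncGE (hi + 1)).obj L) (hi + 1))
  refine QCohRep7.exists_injective_rep T.obj₁ c₀ hi fun n => ?_
  by_cases hn : n ≤ hi
  · have hT' := inv_rot_of_distTriang _ hT
    have hA : IsZero ((DerivedCategory.homologyFunctor X.Modules n).obj T.invRotate.obj₁) :=
      IsZero.of_iso ((DerivedCategory.isGE_iff _ (hi + 1)).1 h3GE (n - 1) (by omega))
        (((DerivedCategory.homologyFunctor X.Modules 0).shiftIso (-1) n (n - 1) (by omega)).app T.obj₃)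
    have hE : IsZero ((DerivedCategory.homologyFunctor X.Modules (n + 1)).obj T.invRotate.obj₁) :=
      IsZero.of_iso ((DerivedCategory.isGE_iff _ (hi + 1)).1 h3GE n (by omega))
        (((DerivedCategory.homologyFunctor X.Modules 0).shiftIso (-1) (n + 1) n (by omega)).app T.obj₃)
    exact KFlatLib.isQCoh_of_exact _ _ _
      (DerivedCategory.HomologySequence.exact₁ _ hT' (n - 1) n (by omega))
      (DerivedCategory.HomologySequence.exact₂ _ hT' n)
      (DerivedCategory.HomologySequence.exact₃ _ hT' n (n + 1) rfl)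
      (hLc (n - 1)) (KFlatLib.isQCoh_of_isZero hA) (hLc n) (KFlatLib.isQCoh_of_isZero hE)
  · exact KFlatLib.isQCoh_of_isZero ((DerivedCategory.isLE_iff _ hi).1 h1LE n (by omega))

local notation "R" => DCoh.restrictD j
set_option quotPrecheck false in
local notation "RC" => (Scheme.Modules.restrictFunctor j).mapHomologicalComplex (ComplexShape.up ℤ)
local notation "fac" => Functor.mapDerivedCategoryFactors (Scheme.Modules.restrictFunctor j)

variable (I : X.IdealSheafData) (hI : I.supportSetᶜ = Set.range j)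
  {F : CochainComplex X.Modules ℤ} {lo hi : ℤ} (hF : DCoh.VanishesOutside F lo hi)
  (hFc : ∀ q : ℤ, Coh.IsCoh (F.X q)) {L : DCoh.D X} (hLc : DCoh.IsQCohD L) {c₀ : ℤ}
  (hK : ∀ i : ℤ, i < c₀ → IsZero (DCoh.HD L i))

include hF in
theorem isZero_deligne (n : ℕ) (i : ℤ) (hi' : hi < i) : IsZero (((Dual3.deligne I n).obj F).X i) :=
  (Dual3.idealMul (I ^ n)).map_isZero (hF i (Or.inr hi'))

include hI hF hFc hLc hK

theorem exists_hom_restrict (α : (R).obj (DCoh.toD X F) ⟶ (R).obj L) :
    ∃ (n : ℕ) (φ : DCoh.toD X ((Dual3.deligne I n).obj F) ⟶ L),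
      (R).map (DerivedCategory.Q.map (Dual3.deligneι I n F)) ≫ α = (R).map φ := by
  let t : TStructure (DCoh.D X) := DerivedCategory.TStructure.t
  let T := (t.triangleLEGE hi (hi + 1) rfl).obj L
  have hT : T ∈ distTriang _ := t.triangleLEGE_distinguished hi (hi + 1) rfl L
  haveI : t.IsGE T.obj₃ (hi + 1) := inferInstanceAs (t.IsGE ((t.truncGE (hi + 1)).obj L) (hi + 1))
  have hT' : (R).mapTriangle.obj T ∈ distTriang _ := (R).map_distinguished T hT
  haveI : DerivedCategory.TStructure.t.IsGE ((R).mapTriangle.obj T).obj₃ (hi + 1) :=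
    isGE_restrictD j T.obj₃ (hi + 1)
  haveI := isLE_restrictD j F hi fun i hi' => hF i (Or.inr hi')
  obtain ⟨g', hg'⟩ : ∃ g' : (R).obj (DerivedCategory.Q.obj F) ⟶ (R).obj T.obj₁, g' ≫ (R).map T.mor₁ = α :=
    exists_hom₁ DerivedCategory.TStructure.t _ hT' ((R).obj (DerivedCategory.Q.obj F)) hi α
  obtain ⟨J, a₀, hJGE, hJq, hJi, ⟨e₀⟩⟩ := hasRep_truncLE L hLc c₀ hi hK
  let e : DerivedCategory.Q.obj J ≅ T.obj₁ := e₀
  haveI := hJGE
  haveI : CochainComplex.IsStrictlyGE ((RC).obj J) a₀ := (CochainComplex.isStrictlyGE_iff _ _).2 fun i hi' =>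
    (Scheme.Modules.restrictFunctor j).map_isZero ((CochainComplex.isStrictlyGE_iff _ _).1 hJGE i hi')
  haveI : ∀ m, Injective (((RC).obj J).X m) := fun m =>
    haveI := hJi m
    Injective.injective_of_adjoint (KFlatLib.lshAdj j) (J.X m)
  haveI : CochainComplex.IsKInjective ((RC).obj J) := CochainComplex.isKInjective_of_injective _ a₀
  obtain ⟨a, ha⟩ := exists_Q_map ((RC).obj F) ((RC).obj J)
    ((fac).inv.app F ≫ g' ≫ (R).map e.inv ≫ (fac).hom.app J)
  obtain ⟨n, ψ, hψ⟩ := exists_lift_cx I hFc j hI hF hJq a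
  refine ⟨n, DerivedCategory.Q.map ψ ≫ e.hom ≫ T.mor₁, ?_⟩
  have h1 : (R).map (DerivedCategory.Q.map ψ) ≫ (fac).hom.app J =
      (R).map (DerivedCategory.Q.map (Dual3.deligneι I n F)) ≫ g' ≫ (R).map e.inv ≫ (fac).hom.app J := by
    rw [Functor.mapDerivedCategoryFactors_hom_naturality, hψ, Functor.map_comp, ha,
      ← Functor.mapDerivedCategoryFactors_hom_naturality_assoc, Iso.hom_inv_id_app_assoc]
  rw [← Category.assoc, ← Category.assoc, cancel_mono, Category.assoc] at h1
  rw [(R).map_comp, (R).map_comp, h1, ← hg']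
  simp only [Category.assoc, ← (R).map_comp_assoc, Iso.inv_hom_id]
  erw [(R).map_id, Category.id_comp]

theorem exists_eq_of_restrict (n : ℕ) (φ ψ : DCoh.toD X ((Dual3.deligne I n).obj F) ⟶ L)
    (h : (R).map φ = (R).map ψ) :
    ∃ m : ℕ, n ≤ m ∧ ∀ t : (Dual3.deligne I m).obj F ⟶ (Dual3.deligne I n).obj F,
      t ≫ Dual3.deligneι I n F = Dual3.deligneι I m F →
        DerivedCategory.Q.map t ≫ φ = DerivedCategory.Q.map t ≫ ψ := by
  let t : TStructure (DCoh.D X) := DerivedCategory.TStructure.t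
  let T := (t.triangleLEGE hi (hi + 1) rfl).obj L
  have hT : T ∈ distTriang _ := t.triangleLEGE_distinguished hi (hi + 1) rfl L
  haveI : t.IsGE T.obj₃ (hi + 1) := inferInstanceAs (t.IsGE ((t.truncGE (hi + 1)).obj L) (hi + 1))
  have hT' : (R).mapTriangle.obj T ∈ distTriang _ := (R).map_distinguished T hT
  haveI : DerivedCategory.TStructure.t.IsGE ((R).mapTriangle.obj T).obj₃ (hi + 1) :=
    isGE_restrictD j T.obj₃ (hi + 1)
  haveI := isLE_restrictD j ((Dual3.deligne I n).obj F) hi (isZero_deligne I hF n)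
  haveI : t.IsLE (DCoh.toD X ((Dual3.deligne I n).obj F)) hi := isLE_Q _ hi (isZero_deligne I hF n)
  obtain ⟨φ', rfl⟩ := exists_hom₁ t T hT _ hi φ
  obtain ⟨ψ', rfl⟩ := exists_hom₁ t T hT _ hi ψ
  have h' : (R).map φ' = (R).map ψ' :=
    hom₁_cancel DerivedCategory.TStructure.t _ hT' _ hi (((R).map_comp _ _).symm.trans (h.trans ((R).map_comp _ _)))
  obtain ⟨J, a₀, hJGE, hJq, hJi, ⟨e₀⟩⟩ := hasRep_truncLE L hLc c₀ hi hK
  let e : DerivedCategory.Q.obj J ≅ T.obj₁ := e₀
  haveI := hJGE
  haveI : ∀ m, Injective (J.X m) := hJi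
  haveI : J.IsKInjective := CochainComplex.isKInjective_of_injective _ a₀
  haveI : CochainComplex.IsStrictlyGE ((RC).obj J) a₀ := (CochainComplex.isStrictlyGE_iff _ _).2 fun i hi' =>
    (Scheme.Modules.restrictFunctor j).map_isZero ((CochainComplex.isStrictlyGE_iff _ _).1 hJGE i hi')
  haveI : ∀ m, Injective (((RC).obj J).X m) := fun m =>
    Injective.injective_of_adjoint (KFlatLib.lshAdj j) (J.X m)
  haveI : CochainComplex.IsKInjective ((RC).obj J) := CochainComplex.isKInjective_of_injective _ a₀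
  obtain ⟨f, hf⟩ := exists_Q_map ((Dual3.deligne I n).obj F) J (φ' ≫ e.inv)
  obtain ⟨g, hg⟩ := exists_Q_map ((Dual3.deligne I n).obj F) J (ψ' ≫ e.inv)
  have h0 : DerivedCategory.Q.map ((RC).map (f - g)) = DerivedCategory.Q.map 0 := by
    rw [← cancel_epi ((fac).hom.app ((Dual3.deligne I n).obj F)), ← Functor.mapDerivedCategoryFactors_hom_naturality]
    rw [Functor.map_sub DerivedCategory.Q, hf, hg, Functor.map_sub, (R).map_comp, (R).map_comp]
    rw [h', sub_self, zero_comp, Functor.map_zero, comp_zero]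
  obtain ⟨hh⟩ := nonempty_homotopy _ _ h0
  obtain ⟨m, hm, hkill⟩ := exists_kill_cx I hFc j hI hF hJq (f - g) hh
  refine ⟨m, hm, fun s hs => ?_⟩
  obtain ⟨hs'⟩ := hkill s hs
  have h2 : DerivedCategory.Q.map (s ≫ (f - g)) = DerivedCategory.Q.map 0 := DerivedCategory.Q_map_eq_of_homotopy _ hs'
  rw [Functor.map_comp, Functor.map_sub, hf, hg, Functor.map_zero, Preadditive.comp_sub, sub_eq_zero,
    ← Category.assoc, ← Category.assoc, cancel_mono] at h2
  exact ((Category.assoc _ _ _).symm.trans (congrArg (fun z => z ≫ T.mor₁) h2)).trans (Category.assoc _ _ _)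

end Groth.Agent.Deligne7

end
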